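import Mathlib
import Groth.Agent.Lib.Helper5.ProjF.PiNat
import Groth.Agent.Lib.Helper5.ProjF.DeltaNat
import Groth.Agent.Lib.Helper5.ProjF2.Rho
import Groth.Agent.Lib.Helper3.AdjHtpyPlus

/-!
# The projection formula map on complexes is the mate of `f^* (A ⊗ B) ≅ f^* A ⊗ f^* B` (helper5)
-/
set_option autoImplicit false
set_option linter.unusedSectionVars false
set_option linter.unusedVariables false
universe u
open CategoryTheory CategoryTheory.Limits MonoidalCategory Opposite TopologicalSpace
  AlgebraicGeometry HomologicalComplex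
open Groth.Agent.Helper1 Groth.Agent.Helper1.TmulLib Groth.Agent.Helper1.QcCech

namespace Groth.Agent.Lib.Helper5.ProjFX

open Groth.Agent.Lib.Helper5.ProjF Groth.Agent.Lib.Helper5.ProjF2
  Groth.Agent.Helper3.AdjHtpyPlus

variable {X Y : Scheme.{u}} (f : X ⟶ Y)

/-- the adjunction `f^* ⊣ f_*` on modules -/
noncomputable abbrev adjM : Scheme.Modules.pullback f ⊣ Scheme.Modules.pushforward f :=
  Scheme.Modules.pullbackPushforwardAdjunction f

/-- the projection formula map factors through `ν` and the counit -/
lemma piMap_eq (M : X.Modules) (A : Y.Modules) :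
    piMap f M A = nuMap f ((Scheme.Modules.pushforward f).obj M) A ≫
      (Scheme.Modules.pushforward f).map
        ((DCoh.tensorBi.map ((adjM f).counit.app M)).app ((Scheme.Modules.pullback f).obj A)) := by
  apply tensor_hom_ext
  intro U m a
  have h1 := piMap_tm f M A U m a
  have h2 := nuMap_tm f ((Scheme.Modules.pushforward f).obj M) A U m a
  have h3 := tensorBi_map_app_tm ((adjM f).counit.app M) ((Scheme.Modules.pullback f).obj A)
    (f ⁻¹ᵁ U) ((ppUnit f ((Scheme.Modules.pushforward f).obj M)).app U m)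
    ((ppUnit f A).app U a)
  have h4 : ((adjM f).counit.app M).app (f ⁻¹ᵁ U)
      ((ppUnit f ((Scheme.Modules.pushforward f).obj M)).app U m) = m := by
    have := (adjM f).right_triangle_components M
    exact congrArg (fun φ => (φ.app U).hom m) this
  show (piMap f M A).app U (tm ((Scheme.Modules.pushforward f).obj M) A U m a) =
    ((Scheme.Modules.pushforward f).map
      ((DCoh.tensorBi.map ((adjM f).counit.app M)).app ((Scheme.Modules.pullback f).obj A))).app U
      ((nuMap f ((Scheme.Modules.pushforward f).obj M) A).app U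
        (tm ((Scheme.Modules.pushforward f).obj M) A U m a))
  rw [h1, h2]
  refine Eq.trans ?_ h3.symm
  rw [h4]
  rfl

/-- the adjunct of the projection formula map -/
lemma pull_piMap_counit (M : X.Modules) (A : Y.Modules) :
    (Scheme.Modules.pullback f).map (piMap f M A) ≫ (adjM f).counit.app _ =
      deltaMap f ((Scheme.Modules.pushforward f).obj M) A ≫
        (DCoh.tensorBi.map ((adjM f).counit.app M)).app ((Scheme.Modules.pullback f).obj A) := by
  have e1 : ((adjM f).homEquiv _ _).symm (piMap f M A) =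
      (Scheme.Modules.pullback f).map (piMap f M A) ≫ (adjM f).counit.app _ :=
    Adjunction.homEquiv_counit _ _ _ _
  refine e1.symm.trans ?_
  rw [piMap_eq, Adjunction.homEquiv_naturality_right_symm]
  rfl

end Groth.Agent.Lib.Helper5.ProjFX

namespace Groth.Agent.Lib.Helper5.ProjFX

open Groth.Agent.Lib.Helper5.ProjF Groth.Agent.Lib.Helper5.ProjF2
  Groth.Agent.Helper3.AdjHtpyPlus Groth.Agent.Lib.Helper5.TotFun Groth.Agent.Lib.Helper5.TotMap

variable {X Y : Scheme.{u}} (f : X ⟶ Y)
  (I : CochainComplex X.Modules ℤ) (P : CochainComplex Y.Modules ℤ)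

/-- the chain-level counit -/
noncomputable abbrev cC : (pullCx f).obj ((pushCx f).obj I) ⟶ I :=
  counitC (adjM f) (ComplexShape.up ℤ) I

/-- the chain map `f^* (f_* I ⊗ P) ≅ f^* f_* I ⊗ f^* P ⟶ I ⊗ f^* P` -/
noncomputable def adjPi : (pullCx f).obj ((LF f I).obj P) ⟶ (KF f I).obj P :=
  (deltaCxIso f ((pushCx f).obj I) P).hom ≫
    (DCoh.tensorCx.map (cC f I)).app ((pullCx f).obj P)

/-- **the adjunct of the projection formula map on complexes** -/
theorem pull_piCx_counit :
    (pullCx f).map (piCx f I P) ≫ cC f ((KF f I).obj P) = adjPi f I P := by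
  unfold adjPi
  refine HomologicalComplex.hom_ext _ _ (fun n => ?_)
  apply hom_ext_G DCoh.tensorBi (Scheme.Modules.pullback f) ((pushCx f).obj I) P
  intro p q hpq
  have e1 : ιB DCoh.tensorBi (Scheme.Modules.pushforward f) (𝟭 Y.Modules) I P p q n hpq ≫
      (piCx f I P).f n = piMap f (I.X p) (P.X q) ≫
        (Scheme.Modules.pushforward f).map (ιA (TAf f) I P p q n hpq) :=
    ι_eMap (TAf f) DCoh.tensorBi (Scheme.Modules.pushforward f) (𝟭 Y.Modules)
      (Scheme.Modules.pushforward f) (piMap f) I P p q n hpq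
  have e2 := (adjM f).counit.naturality (ιA (TAf f) I P p q n hpq)
  have e3 := pull_piMap_counit f (I.X p) (P.X q)
  have e4 : (Scheme.Modules.pullback f).map (ιA DCoh.tensorBi ((pushCx f).obj I) P p q n hpq) ≫
      (deltaCxIso f ((pushCx f).obj I) P).hom.f n =
      (deltaIso f (((pushCx f).obj I).X p) (P.X q)).hom ≫
        ιB DCoh.tensorBi (Scheme.Modules.pullback f) (Scheme.Modules.pullback f)
          ((pushCx f).obj I) P p q n hpq :=
    ι_eIso DCoh.tensorBi DCoh.tensorBi (Scheme.Modules.pullback f) (Scheme.Modules.pullback f)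
      (Scheme.Modules.pullback f) (deltaIso f) ((pushCx f).obj I) P p q n hpq
  have e5 : ιB DCoh.tensorBi (Scheme.Modules.pullback f) (Scheme.Modules.pullback f)
      ((pushCx f).obj I) P p q n hpq ≫
      ((DCoh.tensorCx.map (cC f I)).app ((pullCx f).obj P)).f n =
      (DCoh.tensorBi.map ((adjM f).counit.app (I.X p))).app ((Scheme.Modules.pullback f).obj (P.X q)) ≫
        ιA (TAf f) I P p q n hpq := by
    refine (HomologicalComplex.ι_mapBifunctorMap (cC f I) (𝟙 ((pullCx f).obj P)) DCoh.tensorBi
      (ComplexShape.up ℤ) p q n hpq).trans ?_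
    rw [HomologicalComplex.id_f, CategoryTheory.Functor.map_id, Category.id_comp]
    rfl
  have a1 : (Scheme.Modules.pullback f).map (ιA DCoh.tensorBi ((pushCx f).obj I) P p q n hpq) ≫
      (Scheme.Modules.pullback f).map ((piCx f I P).f n) =
      (Scheme.Modules.pullback f).map (piMap f (I.X p) (P.X q)) ≫
        (Scheme.Modules.pullback f).map
          ((Scheme.Modules.pushforward f).map (ιA (TAf f) I P p q n hpq)) := by
    rw [← Functor.map_comp, ← Functor.map_comp]
    exact congrArg _ e1
  have e2' : (Scheme.Modules.pullback f).map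
      ((Scheme.Modules.pushforward f).map (ιA (TAf f) I P p q n hpq)) ≫
        (adjM f).counit.app (((KF f I).obj P).X n) =
      (adjM f).counit.app ((DCoh.tensorBi.obj (I.X p)).obj
        ((Scheme.Modules.pullback f).obj (P.X q))) ≫ ιA (TAf f) I P p q n hpq := e2
  have lhs : (Scheme.Modules.pullback f).map (ιA DCoh.tensorBi ((pushCx f).obj I) P p q n hpq) ≫
      ((Scheme.Modules.pullback f).map ((piCx f I P).f n) ≫
        (adjM f).counit.app (((KF f I).obj P).X n)) =
      deltaMap f ((Scheme.Modules.pushforward f).obj (I.X p)) (P.X q) ≫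
        (DCoh.tensorBi.map ((adjM f).counit.app (I.X p))).app
          ((Scheme.Modules.pullback f).obj (P.X q)) ≫ ιA (TAf f) I P p q n hpq :=
    by
    refine (Category.assoc _ _ _).symm.trans ?_
    refine (congrArg (fun φ => φ ≫ (adjM f).counit.app (((KF f I).obj P).X n)) a1).trans ?_
    refine (Category.assoc _ _ _).trans ?_
    refine (congrArg (fun φ => (Scheme.Modules.pullback f).map (piMap f (I.X p) (P.X q)) ≫ φ)
      e2').trans ?_
    refine (Category.assoc _ _ _).symm.trans ?_
    refine (congrArg (fun φ => φ ≫ ιA (TAf f) I P p q n hpq) e3).trans ?_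
    exact Category.assoc _ _ _
  have rhs : (Scheme.Modules.pullback f).map (ιA DCoh.tensorBi ((pushCx f).obj I) P p q n hpq) ≫
      ((deltaCxIso f ((pushCx f).obj I) P).hom.f n ≫
        ((DCoh.tensorCx.map (cC f I)).app ((pullCx f).obj P)).f n) =
      deltaMap f ((Scheme.Modules.pushforward f).obj (I.X p)) (P.X q) ≫
        (DCoh.tensorBi.map ((adjM f).counit.app (I.X p))).app
          ((Scheme.Modules.pullback f).obj (P.X q)) ≫ ιA (TAf f) I P p q n hpq :=
    by
    refine (Category.assoc _ _ _).symm.trans ?_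
    refine (congrArg (fun φ => φ ≫ ((DCoh.tensorCx.map (cC f I)).app ((pullCx f).obj P)).f n)
      e4).trans ?_
    refine (Category.assoc _ _ _).trans ?_
    exact congrArg (fun φ => (deltaIso f (((pushCx f).obj I).X p) (P.X q)).hom ≫ φ) e5
  exact lhs.trans rhs.symm

end Groth.Agent.Lib.Helper5.ProjFX
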