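import Mathlib
import Groth.Agent.Lib.Helper5.ProjFX.ChainId
import Groth.Agent.Lib.Helper5.BC.PullTenNat
import Groth.Agent.Lib.Helper5.BC.MateLem
import Groth.Agent.Lib.Helper5.RGamPush.HomKD
import Groth.Agent.Lib.Helper5.ProjF3.Main3

/-!
# The projection formula, naturally in the variable upstairs (helper5)

`Rf_* A ⊗^L P ≅ Rf_* (A ⊗^L f^* P)` for a K-flat complex `P` with quasi-coherent cohomology on `Y`,
as the mate of `Lf^* (- ⊗^L P) ≅ Lf^* (-) ⊗^L f^* P`; it is an isomorphism on objects `A` with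
quasi-coherent cohomology.
-/
set_option autoImplicit false
set_option linter.unusedSectionVars false
set_option linter.unusedVariables false
set_option linter.style.haveILetI false
universe u
open CategoryTheory CategoryTheory.Limits AlgebraicGeometry
attribute [local instance] HasDerivedCategory.standard

namespace Groth.Agent.Lib.Helper5.ProjFX

open Groth.Agent.Lib.Helper5.ProjF Groth.Agent.Lib.Helper5.ProjF2 Groth.Agent.Lib.Helper5.ProjF3
  Groth.Agent.Lib.Helper5.PullTenNat Groth.Agent.Lib.Helper5.LpullLib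
  Groth.Agent.Lib.Helper5.DerQ

variable {X Y : Scheme.{u}} (f : X ⟶ Y) [DCoh.HasRpush f] [DCoh.HasLpull f]
  (P : CochainComplex Y.Modules ℤ) (hP : DCoh.IsKFlat P)
  [DCoh.HasLTensorCx P] [DCoh.HasLTensorCx (fL f P)]

/-- the derived adjunction -/
noncomputable abbrev adjD : DCoh.Lpull f ⊣ DCoh.Rpush f := lpullRpushAdj f

/-- **the projection formula map, natural in the variable upstairs**: the mate of
`Lf^* (- ⊗^L P) ≅ Lf^* (-) ⊗^L f^* P` -/
noncomputable def sigma :
    DCoh.Rpush f ⋙ DCoh.LTensorCx P ⟶ DCoh.LTensorCx (fL f P) ⋙ DCoh.Rpush f :=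
  mateEquiv (adjD f) (adjD f) (lpullTenIso f P hP).hom

/-- the adjunct of a component of `σ` -/
lemma homEquiv_symm_sigma_app (A : DCoh.D X) :
    ((adjD f).homEquiv ((DCoh.LTensorCx P).obj ((DCoh.Rpush f).obj A))
      ((DCoh.LTensorCx (fL f P)).obj A)).symm ((sigma f P hP).app A) =
      (lpullTenIso f P hP).hom.app ((DCoh.Rpush f).obj A) ≫
        (DCoh.LTensorCx (fL f P)).map ((adjD f).counit.app A) :=
  Groth.Agent.Lib.Helper5.BC.homEquiv_symm_mateEquiv_app (adjD f) (adjD f)
    (lpullTenIso f P hP).hom A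

/-- the adjunct of the unit `Q (f_* I) ⟶ Rf_* (Q I)` -/
lemma homEquiv_symm_uCx (I : CochainComplex X.Modules ℤ) :
    ((adjD f).homEquiv _ _).symm (uCx f I) =
      (lpullβ f).app ((pushCx f).obj I) ≫ DerivedCategory.Q.map (cC f I) := by
  have h := Groth.Agent.Lib.Helper5.RGamPush.homEquiv_symm_Qh_map f
    ((HomotopyCategory.quotient Y.Modules (ComplexShape.up ℤ)).obj ((pushCx f).obj I))
    ((HomotopyCategory.quotient X.Modules (ComplexShape.up ℤ)).obj I) (𝟙 _)
  have h0 : DerivedCategory.Qh.map (𝟙 ((HomotopyCategory.quotient Y.Modules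
      (ComplexShape.up ℤ)).obj ((pushCx f).obj I))) ≫
      (rpushUnit f).app ((HomotopyCategory.quotient X.Modules (ComplexShape.up ℤ)).obj I) =
      uCx f I :=
    (congrArg (fun φ => φ ≫ (rpushUnit f).app
      ((HomotopyCategory.quotient X.Modules (ComplexShape.up ℤ)).obj I))
      (CategoryTheory.Functor.map_id _ _)).trans (Category.id_comp _)
  have h1 : ((adjK f).homEquiv ((HomotopyCategory.quotient Y.Modules (ComplexShape.up ℤ)).obj
      ((pushCx f).obj I)) ((HomotopyCategory.quotient X.Modules (ComplexShape.up ℤ)).obj I)).symm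
      (𝟙 ((HomotopyCategory.quotient Y.Modules (ComplexShape.up ℤ)).obj ((pushCx f).obj I))) =
      (HomotopyCategory.quotient X.Modules (ComplexShape.up ℤ)).map (cC f I) := by
    rw [Adjunction.homEquiv_counit]
    erw [CategoryTheory.Functor.map_id, Category.id_comp]
    rfl
  rw [h1] at h
  exact (congrArg _ h0.symm).trans h

/-- the adjunct of `ρ` -/
lemma homEquiv_symm_rho (I : CochainComplex X.Modules ℤ) :
    ((adjD f).homEquiv ((DCoh.tensorCxQ P).obj ((pushCx f).obj I))
      ((DCoh.tensorCxQ (fL f P)).obj I)).symm (rho f I P) =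
      (lpullβ f).app ((LF f I).obj P) ≫ DerivedCategory.Q.map (adjPi f I P) := by
  have h := Groth.Agent.Lib.Helper5.RGamPush.homEquiv_symm_Qh_map f
    ((HomotopyCategory.quotient Y.Modules (ComplexShape.up ℤ)).obj ((LF f I).obj P))
    ((HomotopyCategory.quotient X.Modules (ComplexShape.up ℤ)).obj ((KF f I).obj P))
    ((HomotopyCategory.quotient Y.Modules (ComplexShape.up ℤ)).map (piCx f I P))
  have h1 : ((adjK f).homEquiv ((HomotopyCategory.quotient Y.Modules (ComplexShape.up ℤ)).obj
      ((LF f I).obj P)) ((HomotopyCategory.quotient X.Modules (ComplexShape.up ℤ)).obj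
        ((KF f I).obj P))).symm
      ((HomotopyCategory.quotient Y.Modules (ComplexShape.up ℤ)).map (piCx f I P)) =
      (HomotopyCategory.quotient X.Modules (ComplexShape.up ℤ)).map
        ((Groth.Agent.Lib.Helper5.ProjF2.pullCx f).map (piCx f I P) ≫ cC f ((KF f I).obj P)) := by
    rw [Adjunction.homEquiv_counit, Functor.map_comp]
    have c1 : (adjK f).counit.app ((HomotopyCategory.quotient X.Modules (ComplexShape.up ℤ)).obj
        ((KF f I).obj P)) = (HomotopyCategory.quotient X.Modules (ComplexShape.up ℤ)).map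
          (cC f ((KF f I).obj P)) := rfl
    rw [c1]
    rfl
  rw [h1, pull_piCx_counit] at h
  have h2 : rho f I P = DerivedCategory.Qh.map
      ((HomotopyCategory.quotient Y.Modules (ComplexShape.up ℤ)).map (piCx f I P)) ≫
      (rpushUnit f).app ((HomotopyCategory.quotient X.Modules (ComplexShape.up ℤ)).obj
        ((KF f I).obj P)) := rfl
  rw [h2]
  exact h

/-- the component of `στ` -/
lemma στ_hom_app (J : CochainComplex Y.Modules ℤ) :
    (στ f P).hom.app J = DerivedCategory.Q.map (deltaCxIso f J P).hom := by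
  dsimp [στ, deltaNatIso]
  rw [Category.comp_id]

/-- the characterization of `Lf^* (- ⊗^L P) ≅ Lf^* (-) ⊗^L f^* P` on complexes -/
lemma lpullTenIso_hom_app (J : CochainComplex Y.Modules ℤ) :
    (lpullTenIso f P hP).hom.app (DerivedCategory.Q.obj J) ≫ (γ₂ f P).app J =
      (γ₁ f P).app J ≫ DerivedCategory.Q.map (deltaCxIso f J P).hom := by
  haveI := isLeft₁ f P hP
  haveI := isLeft₂ f P
  rw [← στ_hom_app]
  exact Functor.leftDerivedNatTrans_app (G₁ f P) (G₂ f P) (γ₁ f P) (γ₂ f P)
    (HomologicalComplex.quasiIso Y.Modules (ComplexShape.up ℤ)) (στ f P).hom J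

/-- **the mate `σ` is computed by `ρ` on complexes** -/
theorem sigma_fac (I : CochainComplex X.Modules ℤ) :
    (DCoh.LTensorCx P).map (uCx f I) ≫ (sigma f P hP).app (DerivedCategory.Q.obj I) ≫
        (DCoh.Rpush f).map ((Groth.Agent.Lib.Helper5.AssocD.ε (fL f P)).app I) =
      (Groth.Agent.Lib.Helper5.AssocD.ε P).app ((pushCx f).obj I) ≫ rho f I P := by
  apply ((adjD f).homEquiv _ _).symm.injective
  rw [Adjunction.homEquiv_naturality_left_symm, Adjunction.homEquiv_naturality_right_symm,
    Adjunction.homEquiv_naturality_left_symm, homEquiv_symm_sigma_app, homEquiv_symm_rho]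
  have n1 : (DCoh.Lpull f).map ((DCoh.LTensorCx P).map (uCx f I)) ≫
      (lpullTenIso f P hP).hom.app ((DCoh.Rpush f).obj (DerivedCategory.Q.obj I)) =
      (lpullTenIso f P hP).hom.app (DerivedCategory.Q.obj ((pushCx f).obj I)) ≫
        (DCoh.LTensorCx (fL f P)).map ((DCoh.Lpull f).map (uCx f I)) :=
    (lpullTenIso f P hP).hom.naturality (uCx f I)
  have n2 : (DCoh.Lpull f).map (uCx f I) ≫ (adjD f).counit.app (DerivedCategory.Q.obj I) =
      (lpullβ f).app ((pushCx f).obj I) ≫ DerivedCategory.Q.map (cC f I) := by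
    rw [← homEquiv_symm_uCx, Adjunction.homEquiv_counit]
  have n3 : (DCoh.LTensorCx (fL f P)).map (DerivedCategory.Q.map (cC f I)) ≫
      (Groth.Agent.Lib.Helper5.AssocD.ε (fL f P)).app I =
      (Groth.Agent.Lib.Helper5.AssocD.ε (fL f P)).app
        ((Groth.Agent.Lib.Helper5.ProjF2.pullCx f).obj ((pushCx f).obj I)) ≫
        DerivedCategory.Q.map ((DCoh.tensorCx.map (cC f I)).app (fL f P)) :=
    (Groth.Agent.Lib.Helper5.AssocD.ε (fL f P)).naturality (cC f I)
  have n4 := γ₂_app f P ((pushCx f).obj I)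
  have n5 := lpullTenIso_hom_app f P hP ((pushCx f).obj I)
  have n6 := γ₁_app f P ((pushCx f).obj I)
  have n7 : DerivedCategory.Q.map (adjPi f I P) =
      DerivedCategory.Q.map (deltaCxIso f ((pushCx f).obj I) P).hom ≫
        DerivedCategory.Q.map ((DCoh.tensorCx.map (cC f I)).app (fL f P)) := by
    rw [← Functor.map_comp]
    rfl
  rw [Category.assoc, ← Category.assoc ((DCoh.Lpull f).map _), n1, Category.assoc,
    ← Category.assoc ((DCoh.LTensorCx (fL f P)).map _), ← Functor.map_comp, n2,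
    Functor.map_comp, Category.assoc, n3,
    ← Category.assoc ((DCoh.LTensorCx (fL f P)).map _), ← n4, ← Category.assoc, n5, n6, n7,
    Category.assoc, Category.assoc]

/-- the counit of `- ⊗^L L` is an isomorphism everywhere when `L` is K-flat -/
theorem isIso_ε_app {Z : Scheme.{u}} (L : CochainComplex Z.Modules ℤ) (hL : DCoh.IsKFlat L)
    [DCoh.HasLTensorCx L] (N : CochainComplex Z.Modules ℤ) :
    IsIso ((Groth.Agent.Lib.Helper5.AssocD.ε L).app N) := by
  haveI : IsIso (Groth.Agent.Lib.Helper5.AssocD.ε L) :=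
    Functor.isIso_of_isLeftDerivedFunctor_of_inverts (DCoh.LTensorCx L) _
      (Groth.Agent.Lib.Helper5.LTenDer.inverts_tensorCxQ L hL)
  infer_instance

/-- **the projection formula, natural in the variable upstairs**: `σ_A` is an isomorphism for
`A` and `P` with quasi-coherent cohomology and `f` quasi-compact and quasi-separated -/
theorem isIso_sigma_app [QuasiCompact f] [QuasiSeparated f]
    (hPQ : DCoh.IsQCohD (DerivedCategory.Q.obj P)) (A : DCoh.D X) (hA : DCoh.IsQCohD A) :
    IsIso ((sigma f P hP).app A) := by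
  obtain ⟨I, hI, ⟨eI⟩⟩ := Groth.Agent.Lib.Helper5.RpushOpen.exists_kInjective_repr A
  haveI := hI
  have hIQ : DCoh.IsQCohD (DerivedCategory.Q.obj I) :=
    Groth.Agent.Lib.Helper5.QC.isQCohD_of_iso eI hA
  rw [NatTrans.isIso_app_iff_of_iso (sigma f P hP) eI]
  have hfP : DCoh.IsKFlat (fL f P) := Groth.Agent.Lib.Helper5.KFlatPull.isKFlat_pullback f P hP
  haveI h1 : IsIso (uCx f I) := isIso_uCx_of_isKInjective f I
  haveI h2 := isIso_ε_app (fL f P) hfP I
  haveI h3 := isIso_ε_app P hP ((pushCx f).obj I)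
  haveI h4 := isIso_rho_of_isQCoh f I hIQ P hP hPQ
  have h := sigma_fac f P hP I
  have h5 : (sigma f P hP).app (DerivedCategory.Q.obj I) =
      inv ((DCoh.LTensorCx P).map (uCx f I)) ≫
        ((Groth.Agent.Lib.Helper5.AssocD.ε P).app ((pushCx f).obj I) ≫ rho f I P) ≫
        inv ((DCoh.Rpush f).map ((Groth.Agent.Lib.Helper5.AssocD.ε (fL f P)).app I)) := by
    rw [← h]
    simp
  rw [h5]
  infer_instance

end Groth.Agent.Lib.Helper5.ProjFX
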