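import Mathlib
import Groth.Agent.Lib.Helper5.ProjFX.Mate
import Groth.Agent.Lib.Helper5.BC.LTenCongr
import Groth.Agent.Lib.Helper5.QC.RpushQC
import Groth.Agent.Lib.Helper5.QC.LTenQC
import Groth.Agent.Lib.Helper5.QC.LpullQC

/-!
# The projection formula as natural isomorphisms on `D_QCoh` (helper5)

* `nonempty_projFormula_natX`: `Rf_* (-) ⊗^L M ≅ Rf_* (- ⊗^L L)` on `D_QCoh(O_X)` for `L ≅ Lf^* M`;
* `nonempty_projFormula_natY`: `Rf_* (Lf^* (-) ⊗^L G) ≅ - ⊗^L N` on `D_QCoh(O_Y)` for `N ≅ Rf_* G`.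
-/
set_option autoImplicit false
set_option linter.unusedSectionVars false
set_option linter.unusedVariables false
set_option linter.style.haveILetI false
universe u
open CategoryTheory CategoryTheory.Limits AlgebraicGeometry
attribute [local instance] HasDerivedCategory.standard

namespace Groth.Agent.Lib.Helper5.ProjFX

open Groth.Agent.Lib.Helper5.ProjF Groth.Agent.Lib.Helper5.ProjF2 Groth.Agent.Lib.Helper5.ProjF3
  Groth.Agent.Lib.Helper5.PullTenNat Groth.Agent.Lib.Helper5.LpullLib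
  Groth.Agent.Lib.Helper5.DerQ Groth.Agent.Lib.Helper5.QC Groth.Agent.Lib.Helper5.LTenCongr

/-- a natural transformation which is an isomorphism on the objects with a property gives a
natural isomorphism on the full subcategory -/
noncomputable def isoOn {C D : Type*} [Category C] [Category D] {F G : C ⥤ D} (α : F ⟶ G)
    (P : ObjectProperty C) (h : ∀ A, P A → IsIso (α.app A)) : P.ι ⋙ F ≅ P.ι ⋙ G :=
  haveI : IsIso (Functor.whiskerLeft P.ι α) := by
    haveI : ∀ A : P.FullSubcategory, IsIso ((Functor.whiskerLeft P.ι α).app A) :=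
      fun A => h A.obj A.property
    exact NatIso.isIso_of_isIso_app _
  asIso (Functor.whiskerLeft P.ι α)

variable {X Y : Scheme.{u}} (f : X ⟶ Y) [QuasiCompact f] [QuasiSeparated f]
  [DCoh.HasRpush f] [DCoh.HasLpull f]

/-- **the projection formula, naturally in the variable upstairs** -/
theorem nonempty_projFormula_natX (M : CochainComplex Y.Modules ℤ)
    (hM : DCoh.IsQCohD (DerivedCategory.Q.obj M)) [DCoh.HasLTensorCx M]
    (L : CochainComplex X.Modules ℤ) [DCoh.HasLTensorCx L]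
    (hL : Nonempty (DerivedCategory.Q.obj L ≅ (DCoh.Lpull f).obj (DerivedCategory.Q.obj M))) :
    Nonempty (ObjectProperty.ι (DCoh.IsQCohD (X := X)) ⋙ DCoh.Rpush f ⋙ DCoh.LTensorCx M ≅
      ObjectProperty.ι (DCoh.IsQCohD (X := X)) ⋙ DCoh.LTensorCx L ⋙ DCoh.Rpush f) := by
  obtain ⟨P, p, hP, hp⟩ := kflat_res M
  haveI : DCoh.HasLTensorCx P := Groth.Agent.Lib.Helper5.LTenAll.hasLTensorCx P
  haveI : DCoh.HasLTensorCx (fL f P) := Groth.Agent.Lib.Helper5.LTenAll.hasLTensorCx _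
  haveI : IsIso (DerivedCategory.Q.map p) := (DerivedCategory.isIso_Q_map_iff_quasiIso _ p).2 hp
  have hPQ : DCoh.IsQCohD (DerivedCategory.Q.obj P) :=
    isQCohD_of_iso (asIso (DerivedCategory.Q.map p)).symm hM
  let e1 : DCoh.LTensorCx P ≅ DCoh.LTensorCx M := ltensorIsoOfQuasiIso p hp
  obtain ⟨eL⟩ := hL
  have hfP : DCoh.IsKFlat (fL f P) := Groth.Agent.Lib.Helper5.KFlatPull.isKFlat_pullback f P hP
  let e2' : DerivedCategory.Q.obj (fL f P) ≅ DerivedCategory.Q.obj L :=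
    (Groth.Agent.Lib.Helper5.ProjF.lpullObjIsoKF f P hP).symm ≪≫
      (DCoh.Lpull f).mapIso (asIso (DerivedCategory.Q.map p)) ≪≫ eL.symm
  obtain ⟨e2⟩ := nonempty_ltensor_iso_of_iso e2'
  let s := isoOn (sigma f P hP) (DCoh.IsQCohD (X := X))
    (fun A hA => isIso_sigma_app f P hP hPQ A hA)
  exact ⟨Functor.isoWhiskerLeft _ (Functor.isoWhiskerLeft (DCoh.Rpush f) e1.symm) ≪≫ s ≪≫
    Functor.isoWhiskerLeft _ (Functor.isoWhiskerRight e2 (DCoh.Rpush f))⟩

/-- `τ` is an isomorphism on objects with quasi-coherent cohomology -/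
theorem isIso_tauY_app (I : CochainComplex X.Modules ℤ) [I.IsKInjective]
    [DCoh.HasLTensorCx I] [DCoh.HasLTensorCx ((pushCx f).obj I)]
    (hI : DCoh.IsQCohD (DerivedCategory.Q.obj I)) (F : DCoh.D Y) (hF : DCoh.IsQCohD F) :
    IsIso ((tauY f I).app F) := by
  obtain ⟨P, p, hP, hp⟩ := kflat_res (DerivedCategory.Q.objPreimage F)
  haveI : IsIso (DerivedCategory.Q.map p) := (DerivedCategory.isIso_Q_map_iff_quasiIso _ p).2 hp
  let e : DerivedCategory.Q.obj P ≅ F :=
    asIso (DerivedCategory.Q.map p) ≪≫ DerivedCategory.Q.objObjPreimageIso F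
  have hPQ : DCoh.IsQCohD (DerivedCategory.Q.obj P) := isQCohD_of_iso e.symm hF
  rw [← NatTrans.isIso_app_iff_of_iso (tauY f I) e]
  haveI h1 := isIso_β₂_app f I P hP
  haveI h2 : IsIso ((Groth.Agent.Lib.Helper5.AssocD.ε ((pushCx f).obj I)).app P) :=
    isIso_counit_app (Groth.Agent.Lib.Helper5.LTenAll.adaptedQ_tensorCxQ ((pushCx f).obj I))
      (DCoh.LTensorCx ((pushCx f).obj I)) _ P hP
  haveI h3 := isIso_rho_of_isQCoh f I hI P hP hPQ
  haveI h4 : IsIso ((rhoNat f I).app P) := by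
    show IsIso (DerivedCategory.Q.map (braidCx P ((pushCx f).obj I)).hom ≫ rho f I P ≫
      (DCoh.Rpush f).map (DerivedCategory.Q.map (braidCx I ((Groth.Agent.Lib.Helper5.ProjF2.pullCx f).obj P)).hom))
    infer_instance
  have h := tauY_app f I P
  have h5 : (tauY f I).app (DerivedCategory.Q.obj P) =
      ((Groth.Agent.Lib.Helper5.AssocD.ε ((pushCx f).obj I)).app P ≫ (rhoNat f I).app P) ≫
        inv ((β₂ f I).app P) := by
    rw [← h]
    simp
  rw [h5]
  infer_instance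

/-- **the projection formula, naturally in the variable downstairs** -/
theorem nonempty_projFormula_natY (G : CochainComplex X.Modules ℤ)
    (hG : DCoh.IsQCohD (DerivedCategory.Q.obj G)) [DCoh.HasLTensorCx G]
    (N : CochainComplex Y.Modules ℤ) [DCoh.HasLTensorCx N]
    (hN : Nonempty (DerivedCategory.Q.obj N ≅ (DCoh.Rpush f).obj (DerivedCategory.Q.obj G))) :
    Nonempty (ObjectProperty.ι (DCoh.IsQCohD (X := Y)) ⋙ DCoh.Lpull f ⋙ DCoh.LTensorCx G ⋙
        DCoh.Rpush f ≅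
      ObjectProperty.ι (DCoh.IsQCohD (X := Y)) ⋙ DCoh.LTensorCx N) := by
  obtain ⟨I, q, hI, hq, -, -⟩ := Groth.Agent.Helper3.KInjD.exists_kInjective_resolution G
  haveI := hI
  haveI : DCoh.HasLTensorCx I := Groth.Agent.Lib.Helper5.LTenAll.hasLTensorCx I
  haveI : DCoh.HasLTensorCx ((pushCx f).obj I) := Groth.Agent.Lib.Helper5.LTenAll.hasLTensorCx _
  haveI : IsIso (DerivedCategory.Q.map q) := (DerivedCategory.isIso_Q_map_iff_quasiIso _ q).2 hq
  have hIQ : DCoh.IsQCohD (DerivedCategory.Q.obj I) :=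
    isQCohD_of_iso (asIso (DerivedCategory.Q.map q)) hG
  let e1 : DCoh.LTensorCx G ≅ DCoh.LTensorCx I := ltensorIsoOfQuasiIso q hq
  obtain ⟨eN⟩ := hN
  haveI := isIso_uCx_of_isKInjective f I
  let e2' : DerivedCategory.Q.obj ((pushCx f).obj I) ≅ DerivedCategory.Q.obj N :=
    asIso (uCx f I) ≪≫ (DCoh.Rpush f).mapIso (asIso (DerivedCategory.Q.map q)).symm ≪≫ eN.symm
  obtain ⟨e2⟩ := nonempty_ltensor_iso_of_iso e2'
  let t := isoOn (tauY f I) (DCoh.IsQCohD (X := Y))
    (fun F hF => isIso_tauY_app f I hIQ F hF)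
  exact ⟨Functor.isoWhiskerLeft _ (Functor.isoWhiskerLeft (DCoh.Lpull f)
      (Functor.isoWhiskerRight e1 (DCoh.Rpush f))) ≪≫ t.symm ≪≫
    Functor.isoWhiskerLeft _ e2⟩

end Groth.Agent.Lib.Helper5.ProjFX
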